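import Cfsg.Agent.TwoF.XS.Sq
import Cfsg.Agent.TwoF.XS.Defs
import Cfsg.Agent.SporRec.GF4
import Cfsg.Agent.LieClassical.FieldTransfer
import Cfsg.Agent.UGT.U2.Rec.Congr
import Cfsg.Agent.S0245
import Cfsg.Agent.S0293
import Cfsg.Agent.S0814
import Cfsg.Agent.S0817

/-!
# TwoF / XS : the rows `p = 5` with Sylow subgroups of order `25` (helper33)
-/

set_option autoImplicit false
set_option maxHeartbeats 400000
set_option maxRecDepth 100000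

namespace Cfsg.Agent.TwoF.XS.Fv

open Matrix Subgroup Cfsg.Agent.SporRec.GF4
open scoped commutatorElement

theorem row88_congr {p : ℕ} [Fact p.Prime] {S T : Type} [Group S] [Group T] (h : Row88 p T) (e : S ≃* T) : Row88 p S :=
  fun Y _ _ V _ _ _ K ρ hs he => h Y V K ρ hs (he.map fun f => f.trans e)

/-- the criterion for a matrix group modulo its centre -/
theorem row88_mat [Fact (Nat.Prime 5)] {G M : Type} [Group G] [Finite G] [Monoid M] (f : G →* M)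
    (hf : Function.Injective f) (h3 : ¬ 5 ^ 3 ∣ Nat.card (MulAut (G ⧸ center G))) {a g h : G} {a' c b' g' h' : M}
    (ea : f a = a') (eg : f g = g') (eh : f h = h') (e1 : h' * h' = 1) (e2 : h' * a' * h' = b') (e3 : a' ≠ 1)
    (e4 : a' * a' = c) (e5 : c * c * a' = 1) (e6 : a' * b' = b' * a') (e7 : a' * g' * a' = g') (e8 : g' * b' = b' * g') :
    Row88 5 (G ⧸ center G) := by
  have h1 : h⁻¹ = h := inv_eq_of_mul_eq_one_right (hf (by rw [map_mul, eh, e1, map_one]))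
  have h2 : f (h * a * h⁻¹) = b' := by rw [h1, map_mul, map_mul, ea, eh, e2]
  have h4 : a ^ 5 = 1 := hf (by
    rw [map_one, ← e5, ← e4, map_pow, ea, show 5 = 2 + 2 + 1 from rfl, pow_succ, pow_add, pow_two])
  have h5 : g * a * g⁻¹ = a⁻¹ := by
    rw [mul_inv_eq_iff_eq_mul, eq_inv_mul_iff_mul_eq, ← mul_assoc]
    exact hf (by rw [map_mul, map_mul, ea, eg, e7])
  let π := QuotientGroup.mk' (center G)
  refine row88_of_swap (by norm_num) h3 (a := π a) (b := π (h * a * h⁻¹)) (g := π g) (h := π h) (fun e => e3 ?_)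
    (by rw [← map_pow, h4, map_one]) ?_ (by rw [← map_inv, ← map_mul, ← map_mul, h5, map_inv]) ?_
    (by rw [map_mul, map_mul, map_inv]) ?_
  · have h6 := mem_center_iff.1 ((QuotientGroup.eq_one_iff a).1 e) g
    rw [h6, mul_inv_cancel_right, eq_inv_iff_mul_eq_one] at h5
    rw [show 5 = 2 + 2 + 1 from rfl, pow_succ, pow_add, pow_two, h5, one_mul, one_mul] at h4
    rw [← ea, h4, map_one]
  · rw [← map_mul, ← map_mul]
    exact congrArg π (hf (by rw [map_mul, h2, map_mul, h2, ea, e6]))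
  · rw [mul_inv_eq_iff_eq_mul, ← map_mul, ← map_mul]
    exact congrArg π (hf (by rw [map_mul, h2, map_mul, h2, eg, e8]))
  · have h6 : h * h = 1 := hf (by rw [map_mul, eh, e1, map_one])
    rw [← map_inv, ← map_mul, ← map_mul, h1, ← mul_assoc, ← mul_assoc, h6, one_mul, mul_assoc, h6, mul_one]
    exact mem_zpowers _

theorem aut_psp {F : Type} [Field F] [Fintype F] (r f : ℕ) [Fact r.Prime] (hf : 1 ≤ f) (hF : Fintype.card F = r ^ f) (m : ℕ)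
    (hm : 2 ≤ m) (h22 : m = 2 → 3 ≤ r ^ f) (h : ¬ 5 ^ 3 ∣ (if m = 2 ∧ r = 2 then 2 else 1) * Nat.gcd 2 (r ^ f - 1) * f *
      ((r ^ f) ^ (m ^ 2) * ∏ i ∈ Finset.range m, ((r ^ f) ^ (2 * (i + 1)) - 1))) :
    ¬ 5 ^ 3 ∣ Nat.card (MulAut (PSp m F)) := fun d => h (by
  rw [S0814.result r f hf hF m hm h22] at d
  rw [← S0245.result hF m]
  exact d.trans (mul_dvd_mul_left _ (card_quotient_dvd_card _)))

/-- an element of order five of `SL₂(4)` -/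
def a4 : Matrix (Fin 2 ⊕ Fin 2) (Fin 2 ⊕ Fin 2) F4 := fromBlocks !![0, 0; 0, 1] !![1, 0; 0, 0] !![1, 0; 0, 0] !![.w, 0; 0, 1]

/-- its square -/
def a4b : Matrix (Fin 2 ⊕ Fin 2) (Fin 2 ⊕ Fin 2) F4 :=
  fromBlocks !![1, 0; 0, 1] !![.w, 0; 0, 0] !![.w, 0; 0, 0] !![.w, 0; 0, 1]

/-- the same in the second factor -/
def b4 : Matrix (Fin 2 ⊕ Fin 2) (Fin 2 ⊕ Fin 2) F4 := fromBlocks !![1, 0; 0, 0] !![0, 0; 0, 1] !![0, 0; 0, 1] !![1, 0; 0, .w]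

/-- an inverting element -/
def g4 : Matrix (Fin 2 ⊕ Fin 2) (Fin 2 ⊕ Fin 2) F4 := fromBlocks !![0, 0; 0, 1] !![1, 0; 0, 0] !![1, 0; 0, 0] !![0, 0; 0, 1]

/-- the exchange of the factors -/
def h4 : Matrix (Fin 2 ⊕ Fin 2) (Fin 2 ⊕ Fin 2) F4 := fromBlocks !![0, 1; 1, 0] !![0, 0; 0, 0] !![0, 0; 0, 0] !![0, 1; 1, 0]

theorem sp44 [Fact (Nat.Prime 5)] : Row88 5 (PSp 2 F4) :=
  row88_mat (symplecticGroup (Fin 2) F4).subtype Subtype.val_injective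
    (aut_psp 2 2 (by norm_num) rfl 2 le_rfl (fun _ => by norm_num) (by decide +kernel))
    (a := ⟨a4, SymplecticGroup.mem_iff.2 (by decide +kernel)⟩) (g := ⟨g4, SymplecticGroup.mem_iff.2 (by decide +kernel)⟩)
    (h := ⟨h4, SymplecticGroup.mem_iff.2 (by decide +kernel)⟩) (a' := a4) (c := a4b) (b' := b4) (g' := g4) (h' := h4)
    rfl rfl rfl (by decide +kernel) (by decide +kernel) (by decide +kernel) (by decide +kernel) (by decide +kernel)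
    (by decide +kernel) (by decide +kernel) (by decide +kernel)

/-- an element of order five of `Sp₄(3)` -/
def a3 : Matrix (Fin 4 ⊕ Fin 4) (Fin 4 ⊕ Fin 4) (ZMod 3) :=
  fromBlocks
    !![0, 2, 0, 0; 1, 0, 0, 0; 0, 0, 1, 0; 0, 0, 0, 1]
    !![1, 2, 0, 0; 2, 2, 0, 0; 0, 0, 0, 0; 0, 0, 0, 0]
    !![1, 0, 0, 0; 2, 2, 0, 0; 0, 0, 0, 0; 0, 0, 0, 0]
    !![2, 1, 0, 0; 0, 0, 0, 0; 0, 0, 1, 0; 0, 0, 0, 1]

/-- its square -/
def a3b : Matrix (Fin 4 ⊕ Fin 4) (Fin 4 ⊕ Fin 4) (ZMod 3) :=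
  fromBlocks
    !![1, 1, 0, 0; 0, 0, 0, 0; 0, 0, 1, 0; 0, 0, 0, 1]
    !![0, 2, 0, 0; 2, 1, 0, 0; 0, 0, 0, 0; 0, 0, 0, 0]
    !![1, 1, 0, 0; 2, 1, 0, 0; 0, 0, 0, 0; 0, 0, 0, 0]
    !![2, 1, 0, 0; 0, 2, 0, 0; 0, 0, 1, 0; 0, 0, 0, 1]

/-- the same in the second factor -/
def b3 : Matrix (Fin 4 ⊕ Fin 4) (Fin 4 ⊕ Fin 4) (ZMod 3) :=
  fromBlocks
    !![1, 0, 0, 0; 0, 1, 0, 0; 0, 0, 0, 2; 0, 0, 1, 0]
    !![0, 0, 0, 0; 0, 0, 0, 0; 0, 0, 1, 2; 0, 0, 2, 2]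
    !![0, 0, 0, 0; 0, 0, 0, 0; 0, 0, 1, 0; 0, 0, 2, 2]
    !![1, 0, 0, 0; 0, 1, 0, 0; 0, 0, 2, 1; 0, 0, 0, 0]

/-- an inverting element -/
def g3 : Matrix (Fin 4 ⊕ Fin 4) (Fin 4 ⊕ Fin 4) (ZMod 3) :=
  fromBlocks
    !![2, 2, 0, 0; 1, 1, 0, 0; 0, 0, 1, 0; 0, 0, 0, 1]
    !![2, 2, 0, 0; 2, 0, 0, 0; 0, 0, 0, 0; 0, 0, 0, 0]
    !![0, 1, 0, 0; 1, 2, 0, 0; 0, 0, 0, 0; 0, 0, 0, 0]
    !![1, 2, 0, 0; 1, 2, 0, 0; 0, 0, 1, 0; 0, 0, 0, 1]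

/-- the exchange of the factors -/
def h3 : Matrix (Fin 4 ⊕ Fin 4) (Fin 4 ⊕ Fin 4) (ZMod 3) :=
  fromBlocks
    !![0, 0, 1, 0; 0, 0, 0, 1; 1, 0, 0, 0; 0, 1, 0, 0]
    !![0, 0, 0, 0; 0, 0, 0, 0; 0, 0, 0, 0; 0, 0, 0, 0]
    !![0, 0, 0, 0; 0, 0, 0, 0; 0, 0, 0, 0; 0, 0, 0, 0]
    !![0, 0, 1, 0; 0, 0, 0, 1; 1, 0, 0, 0; 0, 1, 0, 0]

theorem sp83 [Fact (Nat.Prime 5)] : Row88 5 (PSp 4 (ZMod 3)) :=
  row88_mat (symplecticGroup (Fin 4) (ZMod 3)).subtype Subtype.val_injective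
    (aut_psp 3 1 le_rfl rfl 4 (by norm_num) (fun _ => by norm_num) (by decide +kernel))
    (a := ⟨a3, SymplecticGroup.mem_iff.2 (by decide +kernel)⟩) (g := ⟨g3, SymplecticGroup.mem_iff.2 (by decide +kernel)⟩)
    (h := ⟨h3, SymplecticGroup.mem_iff.2 (by decide +kernel)⟩) (a' := a3) (c := a3b) (b' := b3) (g' := g3) (h' := h3)
    rfl rfl rfl (by decide +kernel) (by decide +kernel) (by decide +kernel) (by decide +kernel) (by decide +kernel)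
    (by decide +kernel) (by decide +kernel) (by decide +kernel)

/-- an element of order `25` of `Sp₄(7)` -/
def x7 : Matrix (Fin 2 ⊕ Fin 2) (Fin 2 ⊕ Fin 2) (ZMod 7) :=
  fromBlocks
    !![3, 1; 4, 1]
    !![1, 0; 2, 5]
    !![3, 4; 6, 1]
    !![1, 1; 5, 5]

/-- its square -/
def x7b : Matrix (Fin 2 ⊕ Fin 2) (Fin 2 ⊕ Fin 2) (ZMod 7) :=
  fromBlocks
    !![2, 1; 3, 4]
    !![6, 6; 5, 4]
    !![6, 5; 4, 4]
    !![3, 5; 3, 0]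

/-- its fifth power -/
def y7 : Matrix (Fin 2 ⊕ Fin 2) (Fin 2 ⊕ Fin 2) (ZMod 7) :=
  fromBlocks
    !![1, 0; 1, 2]
    !![1, 2; 5, 2]
    !![0, 5; 1, 4]
    !![4, 3; 2, 6]

/-- its tenth power -/
def y7b : Matrix (Fin 2 ⊕ Fin 2) (Fin 2 ⊕ Fin 2) (ZMod 7) :=
  fromBlocks
    !![3, 6; 5, 2]
    !![2, 3; 0, 5]
    !![1, 0; 4, 0]
    !![5, 5; 6, 3]

theorem fact7 : Fact (Nat.Prime 7) := ⟨by norm_num⟩

attribute [local instance] fact7 in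
theorem sp47 [Fact (Nat.Prime 5)] : Row88 5 (PSp 2 (ZMod 7)) := by
  have h3 := aut_psp (F := ZMod 7) 7 1 le_rfl rfl 2 le_rfl (fun _ => by norm_num) (by decide +kernel)
  let x : symplecticGroup (Fin 2) (ZMod 7) := ⟨x7, SymplecticGroup.mem_iff.2 (by decide +kernel)⟩
  let y : symplecticGroup (Fin 2) (ZMod 7) := ⟨y7, SymplecticGroup.mem_iff.2 (by decide +kernel)⟩
  have e1 : x7 * x7 = x7b := by decide +kernel
  have e2 : x7b * x7b * x7 = y7 := by decide +kernel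
  have e3 : y7 * y7 = y7b := by decide +kernel
  have e4 : y7b * y7b * y7 = 1 := by decide +kernel
  have e5 : J (Fin 2) (ZMod 7) * (y7 * J (Fin 2) (ZMod 7) * (y7b * y7b)) ≠
      y7 * J (Fin 2) (ZMod 7) * (y7b * y7b) * J (Fin 2) (ZMod 7) := by decide +kernel
  have h1 : x ^ 5 = y := by
    rw [show 5 = 2 + 2 + 1 from rfl, pow_succ, pow_add, pow_two]
    exact Subtype.ext (show x7 * x7 * (x7 * x7) * x7 = y7 by rw [e1, e2])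
  have h2 : y ^ 5 = 1 := by
    rw [show 5 = 2 + 2 + 1 from rfl, pow_succ, pow_add, pow_two]
    exact Subtype.ext (show y7 * y7 * (y7 * y7) * y7 = 1 by rw [e3, e4])
  let π := QuotientGroup.mk' (center (symplecticGroup (Fin 2) (ZMod 7)))
  let α : MulAut (PSp 2 (ZMod 7)) := MulAut.conj (π x)
  have h4 : α ^ 5 = MulAut.conj (π y) := by rw [← map_pow, ← map_pow, h1]
  have h5 : α ^ 5 ^ 2 = 1 := by rw [pow_two, pow_mul, h4, ← map_pow, ← map_pow, h2, map_one, map_one]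
  refine row88_of_rank (XE.card_le_of_not_elemAb (r₀ := 1) h3 (Q := zpowers α) ?_ fun h => ?_)
  · rintro ⟨_, n, rfl⟩
    refine ⟨2, Subtype.ext ?_⟩
    change (α ^ n) ^ 5 ^ 2 = 1
    rw [← zpow_natCast, ← _root_.zpow_mul, mul_comm, _root_.zpow_mul, zpow_natCast, h5, _root_.one_zpow]
  · have h6 := h.2 α (mem_zpowers α)
    rw [h4] at h6
    let j := SymplecticGroup.symJ (Fin 2) (ZMod 7)
    have h7 : π (y * j * y⁻¹ * j⁻¹) = 1 := by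
      have h7 : π y * π j * (π y)⁻¹ = π j := DFunLike.congr_fun h6 (π j)
      rw [map_mul, map_mul, map_mul, map_inv, map_inv, h7, mul_inv_cancel]
    have h8 := mem_center_iff.1 ((QuotientGroup.eq_one_iff _).1 h7) j
    have h9 : y⁻¹ = y * y * (y * y) := inv_eq_of_mul_eq_one_left
      (Subtype.ext (show y7 * y7 * (y7 * y7) * y7 = 1 by rw [e3, e4]))
    rw [inv_mul_cancel_right, ← mul_assoc, mul_inv_eq_iff_eq_mul, h9] at h8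
    exact e5 (e3 ▸ congrArg Subtype.val h8)

/-- an element of order five of `Ω₄⁻(2)` -/
def a2 : Matrix (Fin 4 ⊕ Fin 4) (Fin 4 ⊕ Fin 4) (ZMod 2) :=
  fromBlocks
    !![0, 0, 0, 0; 0, 0, 0, 0; 0, 0, 1, 0; 0, 0, 0, 1]
    !![1, 0, 0, 0; 0, 1, 0, 0; 1, 0, 0, 0; 0, 0, 0, 0]
    !![1, 0, 1, 0; 0, 1, 0, 0; 0, 0, 0, 0; 0, 0, 0, 0]
    !![1, 1, 1, 0; 1, 0, 0, 0; 1, 0, 1, 0; 0, 0, 0, 1]

/-- its square -/
def a2b : Matrix (Fin 4 ⊕ Fin 4) (Fin 4 ⊕ Fin 4) (ZMod 2) :=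
  fromBlocks
    !![1, 0, 1, 0; 0, 1, 0, 0; 1, 0, 0, 0; 0, 0, 0, 1]
    !![1, 1, 1, 0; 1, 0, 0, 0; 0, 1, 1, 0; 0, 0, 0, 0]
    !![1, 1, 0, 0; 1, 0, 1, 0; 1, 0, 1, 0; 0, 0, 0, 0]
    !![1, 1, 0, 0; 1, 0, 1, 0; 0, 1, 0, 0; 0, 0, 0, 1]

/-- the same in the second factor -/
def b2 : Matrix (Fin 4 ⊕ Fin 4) (Fin 4 ⊕ Fin 4) (ZMod 2) :=
  fromBlocks
    !![1, 0, 0, 0; 0, 1, 0, 0; 0, 0, 0, 0; 0, 0, 0, 0]
    !![0, 0, 0, 0; 0, 0, 0, 1; 0, 0, 1, 1; 0, 0, 0, 1]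
    !![0, 0, 0, 0; 0, 0, 0, 0; 0, 0, 1, 0; 0, 1, 1, 1]
    !![1, 0, 0, 0; 0, 1, 0, 1; 0, 0, 0, 0; 0, 1, 0, 1]

/-- an inverting element -/
def g2 : Matrix (Fin 4 ⊕ Fin 4) (Fin 4 ⊕ Fin 4) (ZMod 2) :=
  fromBlocks
    !![0, 0, 0, 0; 0, 0, 0, 0; 0, 0, 1, 0; 0, 0, 0, 1]
    !![1, 0, 0, 0; 0, 1, 0, 0; 0, 0, 0, 0; 0, 0, 0, 0]
    !![1, 0, 0, 0; 0, 1, 0, 0; 0, 0, 0, 0; 0, 0, 0, 0]
    !![0, 0, 0, 0; 0, 0, 0, 0; 0, 0, 1, 0; 0, 0, 0, 1]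

/-- the exchange of the factors -/
def h2 : Matrix (Fin 4 ⊕ Fin 4) (Fin 4 ⊕ Fin 4) (ZMod 2) :=
  fromBlocks
    !![0, 0, 0, 1; 0, 0, 0, 0; 0, 0, 0, 0; 1, 0, 0, 0]
    !![0, 0, 0, 0; 0, 0, 1, 0; 0, 1, 0, 0; 0, 0, 0, 0]
    !![0, 0, 0, 0; 0, 0, 1, 0; 0, 1, 0, 0; 0, 0, 0, 0]
    !![0, 0, 0, 1; 0, 0, 0, 0; 0, 0, 0, 0; 1, 0, 0, 0]

/-- an involution -/
def x2 : Matrix (Fin 4 ⊕ Fin 4) (Fin 4 ⊕ Fin 4) (ZMod 2) :=
  fromBlocks
    !![0, 0, 0, 0; 0, 1, 0, 0; 0, 0, 1, 0; 0, 0, 0, 1]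
    !![1, 0, 0, 0; 0, 0, 0, 0; 0, 0, 0, 0; 0, 0, 0, 0]
    !![1, 0, 0, 0; 0, 0, 0, 0; 0, 0, 0, 0; 0, 0, 0, 0]
    !![0, 0, 0, 0; 0, 1, 0, 0; 0, 0, 1, 0; 0, 0, 0, 1]

/-- an involution -/
def y2 : Matrix (Fin 4 ⊕ Fin 4) (Fin 4 ⊕ Fin 4) (ZMod 2) :=
  fromBlocks
    !![1, 0, 1, 0; 0, 1, 1, 0; 1, 1, 1, 0; 0, 0, 0, 1]
    !![1, 1, 1, 0; 1, 1, 1, 0; 1, 1, 0, 0; 0, 0, 0, 0]
    !![1, 1, 1, 0; 1, 1, 1, 0; 1, 1, 0, 0; 0, 0, 0, 0]
    !![1, 0, 1, 0; 0, 1, 1, 0; 1, 1, 1, 0; 0, 0, 0, 1]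

/-- an involution -/
def z2 : Matrix (Fin 4 ⊕ Fin 4) (Fin 4 ⊕ Fin 4) (ZMod 2) :=
  fromBlocks
    !![0, 0, 1, 0; 1, 0, 0, 0; 1, 0, 0, 0; 0, 0, 0, 0]
    !![0, 0, 0, 0; 0, 0, 0, 1; 0, 0, 0, 0; 0, 1, 0, 0]
    !![0, 0, 0, 0; 0, 0, 0, 1; 0, 0, 0, 1; 0, 1, 1, 0]
    !![0, 1, 1, 0; 0, 0, 0, 0; 1, 0, 0, 0; 0, 0, 0, 0]

/-- an involution -/
def w2 : Matrix (Fin 4 ⊕ Fin 4) (Fin 4 ⊕ Fin 4) (ZMod 2) :=
  fromBlocks
    !![1, 0, 1, 0; 1, 0, 0, 1; 1, 0, 0, 1; 0, 0, 1, 1]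
    !![0, 1, 0, 0; 1, 0, 1, 1; 0, 1, 0, 0; 0, 1, 0, 0]
    !![0, 1, 1, 0; 1, 0, 1, 1; 1, 1, 0, 1; 0, 1, 1, 0]
    !![1, 1, 1, 0; 0, 0, 0, 0; 1, 0, 0, 1; 0, 1, 1, 1]

/-- the check that a matrix preserves the form -/
def Iso (M : Matrix (Fin 4 ⊕ Fin 4) (Fin 4 ⊕ Fin 4) (ZMod 2)) : Prop := ∀ s t u v s' t' u' v' : ZMod 2,
  quadFormPlus 4 (ZMod 2) (M *ᵥ Sum.elim ![s, t, u, v] ![s', t', u', v']) =
    quadFormPlus 4 (ZMod 2) (Sum.elim ![s, t, u, v] ![s', t', u', v'])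

theorem exists_iso {M N : Matrix (Fin 4 ⊕ Fin 4) (Fin 4 ⊕ Fin 4) (ZMod 2)} (h : Iso M) (e : N * M = 1) :
    ∃ x : isometryGroup (ZMod 2) (quadFormPlus 4 (ZMod 2)), x.1.1 = M := by
  refine ⟨⟨⟨M, N, mul_eq_one_comm.1 e, e⟩, fun u _ => ?_⟩, rfl⟩
  have h1 : u = Sum.elim ![u (.inl 0), u (.inl 1), u (.inl 2), u (.inl 3)]
      ![u (.inr 0), u (.inr 1), u (.inr 2), u (.inr 3)] := by
    ext (i | i) <;> fin_cases i <;> rfl
  rw [h1]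
  exact h _ _ _ _ _ _ _ _

theorem o82 [Fact (Nat.Prime 5)] : Row88 5 (POmega (ZMod 2) (quadFormPlus 4 (ZMod 2))) := by
  let f : isometryGroup (ZMod 2) (quadFormPlus 4 (ZMod 2)) →* Matrix (Fin 4 ⊕ Fin 4) (Fin 4 ⊕ Fin 4) (ZMod 2) :=
    (Units.coeHom _).comp (Subgroup.subtype _)
  have hf : Function.Injective f := Units.val_injective.comp Subtype.val_injective
  have e4 : a2 * a2 = a2b := by decide +kernel
  have e5 : a2b * a2b * a2 = 1 := by decide +kernel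
  have e7 : a2 * g2 * a2 = g2 := by decide +kernel
  have key : ∀ {M N P : Matrix (Fin 4 ⊕ Fin 4) (Fin 4 ⊕ Fin 4) (ZMod 2)}, Iso M → Iso N → M * M = 1 → N * N = 1 →
      M * N * M * N = P → ∃ x ∈ commutator _, f x = P := by
    intro M N P h1 h2 h3 h4 h5
    obtain ⟨x, hx⟩ := exists_iso h1 h3
    obtain ⟨y, hy⟩ := exists_iso h2 h4
    replace hx : f x = M := hx
    replace hy : f y = N := hy
    refine ⟨⁅x, y⁆, commutator_mem_commutator (mem_top _) (mem_top _), ?_⟩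
    rw [commutatorElement_def, inv_eq_of_mul_eq_one_right (hf (by rw [map_mul, hx, h3, map_one]) : x * x = 1),
      inv_eq_of_mul_eq_one_right (hf (by rw [map_mul, hy, h4, map_one]) : y * y = 1), map_mul, map_mul, map_mul, hx, hy,
      h5]
  obtain ⟨g, hg, eg⟩ := key (M := x2) (N := y2) (P := g2) (by unfold Iso; decide +kernel) (by unfold Iso; decide +kernel)
    (by decide +kernel) (by decide +kernel) (by decide +kernel)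
  obtain ⟨h, hh, eh⟩ := key (M := z2) (N := w2) (P := h2) (by unfold Iso; decide +kernel) (by unfold Iso; decide +kernel)
    (by decide +kernel) (by decide +kernel) (by decide +kernel)
  obtain ⟨a, ea⟩ := exists_iso (M := a2) (by unfold Iso; decide +kernel) e5
  replace ea : f a = a2 := ea
  have ha : a ∈ commutator _ := by
    have h1 : a * g * a = g := hf (by rw [map_mul, map_mul, ea, eg, e7])
    have h2 : a * a * (a * a) * a = 1 := hf (by simp only [map_mul, ea, map_one, e4, e5])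
    have h3 : a = ⁅g, a * a⁆ := by
      have h4 : g * a * g⁻¹ = a⁻¹ := by rw [mul_inv_eq_iff_eq_mul, eq_inv_mul_iff_mul_eq, ← mul_assoc, h1]
      rw [commutatorElement_def, ← conj_mul, h4, ← _root_.mul_inv_rev, ← _root_.mul_inv_rev,
        inv_eq_of_mul_eq_one_right h2]
    rw [h3]
    exact commutator_mem_commutator (mem_top _) (mem_top _)
  refine row88_mat (f.comp (Subgroup.subtype _)) (hf.comp Subtype.val_injective) (fun d => ?_) (a := ⟨a, ha⟩) (g := ⟨g, hg⟩)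
    (h := ⟨h, hh⟩) (c := a2b) (b' := b2) ea eg eh (by decide +kernel) (by decide +kernel) (by decide +kernel) e4 e5
    (by decide +kernel) e7 (by decide +kernel)
  have h1 := S0293.result (F := ZMod 2) (q := 2) rfl 4 le_rfl
  rw [S0817.result (F := ZMod 2) 2 1 le_rfl rfl 4 le_rfl] at d
  have h2 : Nat.card (POmega (ZMod 2) (quadFormPlus 4 (ZMod 2))) = 174182400 := by
    rw [show Nat.gcd 4 (2 ^ 4 - 1) = 1 from rfl, one_mul] at h1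
    exact h1.trans (by decide +kernel)
  rw [h2] at d
  revert d
  decide +kernel

end Cfsg.Agent.TwoF.XS.Fv

namespace Cfsg.Agent.TwoF.XS

open Fv LieClassical.FieldTransfer

/-- **the rows `p = 5`** -/
theorem five : Five := by
  rintro p _ F _ _ rfl
  have := fact7
  refine ⟨fun h => h.elim (fun h => ?_) fun h => ?_, fun h => ?_, fun h => ?_⟩
  · exact row88_congr sp44 (pspCongr 2 (FiniteField.ringEquivOfCardEq h))
  · exact row88_congr sp47 (pspCongr 2 (FiniteField.ringEquivOfCardEq (h.trans (ZMod.card 7).symm)))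
  · exact row88_congr sp83 (pspCongr 4 (FiniteField.ringEquivOfCardEq (h.trans (ZMod.card 3).symm)))
  · obtain ⟨e⟩ := UGT.U2.Rec.Congr.nonempty_POmega (FiniteField.ringEquivOfCardEq (h.trans (ZMod.card 2).symm))
      (Q := quadFormPlus 4 F) (Q' := quadFormPlus 4 (ZMod 2)) fun v => by simp [quadFormPlus, map_sum, map_mul]
    exact row88_congr o82 e

end Cfsg.Agent.TwoF.XS
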